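import Cfsg.Agent.H187.FiOdd.Cent

/-!
# Abelian subgroups of odd order of `Fi24'` (helper837, task 2110, S2501, S2502)

An element of prime order `≥ 5` has a centralizer of order at most `1814400` (helper187); the 3-part of the order of
`Fi24'` is `3 ^ 16 = 43046721`.
-/

set_option autoImplicit false
set_option maxRecDepth 100000

namespace Cfsg.Agent.H837.Fi24Odd

open Subgroup Cfsg
open Cfsg.Spor (Fi24)
open Cfsg.Agent.R08.FiTwentyFour (finite_Fi24)

/-- **An abelian subgroup of `Fi24` of odd order has order at most `3 ^ 16`.** -/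
theorem odd_Fi24 {B : Subgroup Fi24} (hB : ∀ x ∈ B, ∀ y ∈ B, x * y = y * x) (h2 : ¬ 2 ∣ Nat.card B) :
    Nat.card B ≤ 43046721 := by
  have hfin : Finite Fi24 := finite_Fi24
  have hdvd : Nat.card B ∣ 2510411418381323442585600 := by
    rw [← H843.Fi24N.card_Fi24]
    exact Subgroup.card_subgroup_dvd_card B
  by_cases h : ∃ r : ℕ, r.Prime ∧ 5 ≤ r ∧ r ∣ Nat.card B
  · obtain ⟨r, hr, h5, hd⟩ := h
    have hf : Fact r.Prime := ⟨hr⟩
    obtain ⟨⟨y, hy⟩, ho⟩ := exists_prime_orderOf_dvd_card' r hd
    have ho' : orderOf y = r := by rwa [Subgroup.orderOf_mk] at ho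
    have h3 := H187.FiOdd.card_cent_le hr h5 ho'
    have h4 : B ≤ centralizer ({y} : Set Fi24) := by
      intro x hx
      rw [mem_centralizer_singleton_iff]
      exact hB x hx y hy
    have h6 : Nat.card B ≤ Nat.card ↥(centralizer ({y} : Set Fi24)) := Subgroup.card_le_of_le h4
    omega
  · have h3 : Nat.card B = 3 ^ (Nat.card B).primeFactorsList.length := by
      refine Nat.eq_prime_pow_of_unique_prime_dvd Nat.card_pos.ne' ?_
      intro d hd hdd
      by_contra h3
      have h5 : ¬ 5 ≤ d := fun h5 => h ⟨d, hd, h5, hdd⟩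
      have h6 := hd.two_le
      have h7 : d = 2 ∨ d = 4 := by omega
      rcases h7 with rfl | rfl
      · exact h2 hdd
      · revert hd; decide
    have h4 : (Nat.card B).primeFactorsList.length ≤ 16 := by
      by_contra hc
      have h5 : 3 ^ 17 ∣ 2510411418381323442585600 := by
        refine (pow_dvd_pow 3 (by omega : 17 ≤ (Nat.card B).primeFactorsList.length)).trans ?_
        rw [← h3]
        exact hdvd
      revert h5
      norm_num
    rw [h3]
    calc 3 ^ (Nat.card B).primeFactorsList.length ≤ 3 ^ 16 := Nat.pow_le_pow_right (by norm_num) h4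
      _ = 43046721 := by norm_num

/-- **An abelian subgroup of `Fi24'` of odd order has order at most `3 ^ 16`.** -/
theorem odd_le {A : Subgroup Spor.Fi24'} (hA : IsMulCommutative A) (h2 : ¬ 2 ∣ Nat.card A) :
    Nat.card A ≤ 43046721 := by
  have hfin : Finite Fi24 := finite_Fi24
  have hc : Nat.card (A.map (commutator Fi24).subtype) = Nat.card A :=
    card_map_of_injective (commutator Fi24).subtype_injective
  rw [← hc]
  refine odd_Fi24 ?_ (by rwa [hc])
  rintro _ ⟨x, hx, rfl⟩ _ ⟨y, hy, rfl⟩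
  have h1 : (⟨x, hx⟩ : A) * ⟨y, hy⟩ = ⟨y, hy⟩ * ⟨x, hx⟩ := hA.is_comm.comm _ _
  have h3 : x * y = y * x := congrArg Subtype.val h1
  rw [← map_mul, h3, map_mul]

/-- **Task 2110.** -/
theorem odd {A : Subgroup Spor.Fi24'} (hA : IsMulCommutative A) (h2 : ¬ 2 ∣ Nat.card A) :
    Nat.card A ≤ 107000000 :=
  (odd_le hA h2).trans (by norm_num)

end Cfsg.Agent.H837.Fi24Odd
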