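import Cfsg.Agent.H51.SY.Num
import Cfsg.Agent.H465.SpFi23
import Cfsg.Agent.KFacts.FiTTh.Quasi
import Cfsg.Agent.GH.Cov.Prod

/-!
# S3846: the row `Fi23` (helper837)

* `card_radIn_dvd` : the radical of a quasisimple subgroup is central;
* `p = 5, 7, 11, 13` : `2.Fi22` has index prime to `p`; `p = 17` : an element of order 17 normalises no 2-subgroup
  (`H465.SpFi23.no_two`); `p = 23` : Theorem O.
-/

set_option autoImplicit false

namespace Cfsg.Agent.H837.NoEFi23

open Cfsg Subgroup Cfsg.Agent.H459.Rad Cfsg.Agent.H301.SY Cfsg.Agent.H51.SY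
open Cfsg.Agent.Fischer.Fi23Simple (card_Fi23)
open Cfsg.Agent.Fischer.Fi23Class (K)
open Cfsg.Spor (Fi23)

/-- the radical of a quasisimple subgroup is central -/
theorem card_radIn_dvd {G : Type*} [Group G] [Finite G] {L : Subgroup G} (hq : IsQuasisimple L) :
    Nat.card (radIn L) ∣ Nat.card (center L) := by
  have h1 : Nat.card (radIn L) = Nat.card (solvableRadical L) :=
    Subgroup.card_map_of_injective L.subtype_injective
  rw [h1]
  refine card_dvd_of_le ?_
  by_contra hc
  have h2 := Cfsg.Agent.GH.Cov.Prod.eq_top_of_normal hq.1.commutator_eq_top hq.2 (rad_normal L) hc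
  have h3 : Group.IsSolvable L := by
    have h4 : Group.IsSolvable (⊤ : Subgroup L) := by
      rw [← h2]
      exact rad_solvable L
    exact Group.isSolvable_of_isSolvable_injective (f := (Subgroup.topEquiv (G := L)).symm.toMonoidHom)
      (MulEquiv.injective _)
  have h5 : Nontrivial L := by
    have := hq.2.toNontrivial
    exact (QuotientGroup.mk'_surjective (center L)).nontrivial
  have h6 := Group.IsSolvable.commutator_lt_top_of_nontrivial L
  rw [hq.1.commutator_eq_top] at h6
  exact lt_irrefl _ h6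

theorem card_rad_K : Nat.card (radIn (K : Subgroup Fi23)) ∣ 2 := by
  have := Cfsg.Agent.H465.SpFi23.finF
  have h1 := card_radIn_dvd Cfsg.Agent.KFacts.FiTTh.Quasi.qs_K
  rwa [Cfsg.Agent.KFacts.FiTTh.Quasi.cover.1] at h1

theorem K_index : (K : Subgroup Fi23).index = 31671 := Cfsg.Agent.SporRec.Fi23Index.index_H

/-- `p = 5, 7, 11, 13` -/
theorem noE_small {p : ℕ} [hp : Fact p.Prime] (h2 : p ≠ 2) (hi : ¬ p ∣ 31671) : NoE p Fi23 := by
  have := Cfsg.Agent.H465.SpFi23.finF
  refine noE_of_index (L := K) ?_ (by rw [K_index]; exact hi) ?_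
  · intro h
    have := K_index
    rw [h, index_top] at this
    omega
  · intro h
    exact h2 ((Nat.prime_dvd_prime_iff_eq hp.out Nat.prime_two).1 (h.trans card_rad_K))

theorem dvd_two_pow {t k : ℕ} (ht : t.Prime) (h : t ∣ 2 ^ k) : t = 2 :=
  (Nat.prime_dvd_prime_iff_eq ht Nat.prime_two).1 (ht.dvd_of_dvd_pow h)

theorem noE_fi23 {K : Type*} [Group K] [Finite K] [IsSimpleGroup K] (h : Cfsg.Spor.IsoFi23 K) {p : ℕ}
    [hpf : Fact p.Prime] (hp : 5 ≤ p) (hb : Cfsg.Agent.H301.SY.Blk p K) (hO : Cfsg.Agent.H301.SY.ThO p K) :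
    Cfsg.Agent.H301.SY.NoE p K := by
  obtain ⟨e⟩ := h
  have hfin := Cfsg.Agent.H465.SpFi23.finF
  have hcard : Nat.card K = 4089470473293004800 := by rw [Nat.card_congr e.toEquiv, card_Fi23]
  have hna : ¬ IsMulCommutative K := not_comm_of_card (by rw [hcard]; norm_num)
  by_cases hd : p ∣ Nat.card K
  swap
  · exact noE_of_not_dvd hd
  by_cases hi : p ∣ 31671
  swap
  · exact NoE.congr e (noE_small (by omega) hi)
  have hp' : p = 17 ∨ p = 23 := by
    have h1 : (31671 : ℕ) = 3 ^ 4 * 17 * 23 := by norm_num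
    rw [h1] at hi
    rcases (Nat.Prime.dvd_mul hpf.out).1 hi with h2 | h2
    · rcases (Nat.Prime.dvd_mul hpf.out).1 h2 with h3 | h3
      · have := (Nat.prime_dvd_prime_iff_eq hpf.out Nat.prime_three).1 (hpf.out.dvd_of_dvd_pow h3)
        omega
      · exact Or.inl ((Nat.prime_dvd_prime_iff_eq hpf.out (by norm_num)).1 h3)
    · exact Or.inr ((Nat.prime_dvd_prime_iff_eq hpf.out (by norm_num)).1 h2)
  rcases hp' with rfl | rfl
  · -- `p = 17`
    have hcyc := cyclic_of_card (K := K) (p := 17) (by rw [hcard]; norm_num)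
    refine NoE.of_m0 hna hcyc fun x hx _ hY => M0.of_triv_blk hcyc hb hx hY fun t ht _ htd R hR hxR => ?_
    have ht2 : t = 2 := dvd_two_pow ht (k := 4) (by simpa using htd)
    subst ht2
    by_cases h0 : R = ⊥
    · rw [h0]
      intro a ha
      rw [mem_bot.1 ha, mul_one, one_mul]
    · exfalso
      refine Cfsg.Agent.H465.SpFi23.no_two (y := e x) (E := R.map e.toMonoidHom) ?_ (hR.map _) ?_ ?_
      · rw [MulEquiv.orderOf_eq, hx]
      · rwa [Ne, Subgroup.map_eq_bot_iff_of_injective _ e.injective]
      · rintro _ ⟨u, hu, rfl⟩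
        exact ⟨_, hxR u hu, by simp⟩
  · -- `p = 23`
    have hcyc := cyclic_of_card (K := K) (p := 23) (by rw [hcard]; norm_num)
    refine NoE.of_m0 hna hcyc fun x hx hR hY => m0_num hcyc hb hO hx hR hY fun t ht _ htd => ?_
    have ht' : t = 2 ∨ t = 11 := by
      have h1 : (23 - 1 : ℕ) = 2 * 11 := by norm_num
      rw [h1] at htd
      rcases (Nat.Prime.dvd_mul ht).1 htd with h2 | h2
      · exact Or.inl ((Nat.prime_dvd_prime_iff_eq ht Nat.prime_two).1 h2)
      · exact Or.inr ((Nat.prime_dvd_prime_iff_eq ht (by norm_num)).1 h2)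
    rcases ht' with rfl | rfl
    · right
      have hx' : orderOf (e x) = 23 := by rw [MulEquiv.orderOf_eq, hx]
      refine ⟨?_, ?_⟩
      · intro h2
        have : Fact (Nat.Prime 2) := ⟨Nat.prime_two⟩
        obtain ⟨u, hu⟩ := exists_prime_orderOf_dvd_card' 2 h2
        have h3 := (Cfsg.Agent.H839.Fi23.twentythree_main (zpowers (e x)) (by rw [Nat.card_zpowers, hx'])).2
        have hux : Commute x (u : K) := (mem_centralizer_singleton_iff.1 u.2).symm
        have h4 : e (u : K) ∈ centralizer ((zpowers (e x) : Subgroup Fi23) : Set Fi23) := by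
          rw [mem_centralizer_iff]
          rintro g hg
          obtain ⟨i, rfl⟩ := mem_zpowers_iff.1 hg
          exact (Commute.zpow_left (hux.map e) i).eq
        rw [h3] at h4
        have h5 := orderOf_dvd_of_mem_zpowers h4
        rw [MulEquiv.orderOf_eq, orderOf_coe, hu, hx'] at h5
        omega
      · obtain ⟨T⟩ : Nonempty (Sylow 2 K) := inferInstance
        refine ⟨T, ?_⟩
        intro a j n h1 h2 h3 _ _ _ _
        have : Fact (Nat.Prime 2) := ⟨Nat.prime_two⟩
        have h4 : a + j = 18 := by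
          have h5 := T.card_eq_multiplicity
          rw [hcard] at h5
          have h6 : (4089470473293004800 : ℕ).factorization 2 = 18 := by
            have h7 : (4089470473293004800 : ℕ) = 2 ^ 18 * 15600091832325 := by norm_num
            rw [h7, Nat.factorization_mul (by norm_num) (by norm_num), Nat.Prime.factorization_pow Nat.prime_two,
              Finsupp.add_apply, Finsupp.single_eq_same,
              Nat.factorization_eq_zero_of_not_dvd (by norm_num : ¬ 2 ∣ 15600091832325)]
          rw [h6, h1] at h5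
          exact Nat.pow_right_injective le_rfl h5
        have h5 : j ≤ 1 := by
          by_contra h6
          have h7 : 2 ^ 2 ∣ 23 - 1 := (pow_dvd_pow 2 (by omega)).trans h3
          omega
        have h6 : a = 17 ∨ a = 18 := by omega
        rcases h6 with rfl | rfl
        · norm_num at h2
        · norm_num at h2
    · left
      refine cond_order (v := 1) (by rw [hcard]; norm_num) ?_
      intro i hi
      have : i = 1 := by
        rw [Finset.mem_Icc] at hi
        omega
      subst this
      decide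

end Cfsg.Agent.H837.NoEFi23
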