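import Cfsg.Agent.H837.RankFix
import Cfsg.Agent.H870.IMFiTwentyThree

/-!
# S4526: the row `Fi₂₃` (helper837)

The rank 3 permutation character on the 31671 transpositions is `1 + 782 + 30888`; all `p`-subgroups have fixed
vectors in 782 for `p ≠ 3`, in 30888 for `p ≠ 17`. The primes 5 and 7 from `IM`.
-/

set_option autoImplicit false

namespace Cfsg.Agent.H837.IMCFi23

open Cfsg Cfsg.Agent.H837.RankFix Cfsg.Agent.H690.Spor.RankThree Cfsg.Agent.H625.SylConst
  Cfsg.Agent.H870.IMFi23 Cfsg.Agent.LThreeFi23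

universe u v

theorem params {a b : ℕ} {r s : ℤ} {f g : ℕ} (h1 : 3510 * 3510 = 3510 + 3510 * a + 28160 * b) (h2 : s < r)
    (h3 : r + s = a - b) (h4 : r * s = b - 3510) (h5 : f + g = 3510 + 28160)
    (h6 : (f : ℤ) * (r - s) = -(s * (3510 + 28160) + 3510)) : f = 782 ∧ g = 30888 ∧ r = 351 ∧ s = -9 := by
  have h8 : b % 351 = 0 := by omega
  obtain ⟨c, rfl⟩ : ∃ c, b = 351 * c := ⟨b / 351, by omega⟩
  have hsq : (r - s) * (r - s) = ((a : ℤ) - (351 * c : ℕ)) * (a - (351 * c : ℕ)) - 4 * (((351 * c : ℕ) : ℤ) - 3510) := by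
    rw [← h3, ← h4]
    ring
  have hc : c ≤ 1 := by omega
  have hpos : 0 < r - s := by omega
  interval_cases c
  · obtain rfl : a = 3509 := by omega
    norm_num at hsq h3 h4
    have h9 : r - s = 3511 := by nlinarith
    rw [h9] at h6
    omega
  · obtain rfl : a = 693 := by omega
    norm_num at hsq h3 h4
    have h9 : r - s = 360 := by nlinarith
    rw [h9] at h6
    omega

/-- **S4526, the row `Fi₂₃`.** -/
theorem imc_fi23 {S : Type u} [Group S] [Finite S] (h : Cfsg.Spor.IsoFi23 S) {p : ℕ} [hp : Fact p.Prime]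
    (hd : p ∣ Nat.card S) : IMC p S := by
  have him : H33.IM p S := im_fi23 h hd
  obtain ⟨e⟩ := h
  have hcard : Nat.card S = 4089470473293004800 := by rw [Nat.card_congr e.toEquiv, card_G]
  have hfin : Finite Spor.Fi23 := Finite.of_equiv S e.toEquiv
  obtain ⟨R, hR⟩ := exists_r3
  have hpr := hp.out
  rw [hcard] at hd
  have h5 : p ∣ 2 ^ 18 * 3 ^ 13 * 5 ^ 2 * 7 * 11 * 13 * 17 * 23 := by
    norm_num
    exact hd
  have key : p = 5 ∨ p = 7 ∨ (p ∣ 782 ∧ p ≠ 3) ∨ (p ∣ 30888 ∧ p ≠ 17) := by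
    have pw : ∀ {q n : ℕ}, q.Prime → p ∣ q ^ n → p = q := fun hq h =>
      (Nat.prime_dvd_prime_iff_eq hpr hq).1 (hpr.dvd_of_dvd_pow h)
    have pw' : ∀ {q : ℕ}, q.Prime → p ∣ q → p = q := fun hq h => (Nat.prime_dvd_prime_iff_eq hpr hq).1 h
    rcases hpr.dvd_mul.1 h5 with h5 | h5
    · rcases hpr.dvd_mul.1 h5 with h5 | h5
      · rcases hpr.dvd_mul.1 h5 with h5 | h5
        · rcases hpr.dvd_mul.1 h5 with h5 | h5
          · rcases hpr.dvd_mul.1 h5 with h5 | h5
            · rcases hpr.dvd_mul.1 h5 with h5 | h5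
              · rcases hpr.dvd_mul.1 h5 with h5 | h5
                · obtain rfl := pw (by norm_num) h5
                  exact Or.inr (Or.inr (Or.inl ⟨by norm_num, by norm_num⟩))
                · obtain rfl := pw (by norm_num) h5
                  exact Or.inr (Or.inr (Or.inr ⟨by norm_num, by norm_num⟩))
              · exact Or.inl (pw (by norm_num) h5)
            · exact Or.inr (Or.inl (pw' (by norm_num) h5))
          · obtain rfl := pw' (by norm_num) h5
            exact Or.inr (Or.inr (Or.inr ⟨by norm_num, by norm_num⟩))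
        · obtain rfl := pw' (by norm_num) h5
          exact Or.inr (Or.inr (Or.inr ⟨by norm_num, by norm_num⟩))
      · obtain rfl := pw' (by norm_num) h5
        exact Or.inr (Or.inr (Or.inl ⟨by norm_num, by norm_num⟩))
    · obtain rfl := pw' (by norm_num) h5
      exact Or.inr (Or.inr (Or.inl ⟨by norm_num, by norm_num⟩))
  rcases key with rfl | rfl | key
  · refine H661.SC.imc_of_IM ?_ him
    rw [hcard]
    norm_num
  · refine H661.SC.imc_of_IM ?_ him
    rw [hcard]
    norm_num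
  refine IMC.of_equiv e ?_
  obtain ⟨χ, h6, h7⟩ := exists_fixAll hR ne_half (p := p) (by
    intro a b r s f g h1 h2 h3 h4 h5 h6 _
    obtain ⟨rfl, rfl, rfl, rfl⟩ := params h1 h2 h3 h4 h5 h6
    rcases key with ⟨h7, h8⟩ | ⟨h7, h8⟩
    · exact Or.inl ⟨h7, 3 ^ 4, by norm_num,
        Nat.Coprime.pow_left 4 ((Nat.coprime_primes (by norm_num) hpr).2 (Ne.symm h8)), by norm_num⟩
    · exact Or.inr ⟨h7, 17, by norm_num, (Nat.coprime_primes (by norm_num) hpr).2 (Ne.symm h8), by norm_num⟩)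
  exact h7.imc χ h6

end Cfsg.Agent.H837.IMCFi23
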