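import Cfsg.Agent.H837.RankFix
import Cfsg.Agent.H870.IMFiTwentyTwo

/-!
# S4526: the row `Fi₂₂` (helper837)

The rank 3 permutation character on the 3510 transpositions is `1 + 429 + 3080`; all `p`-subgroups have fixed
vectors in 429 for `p ≠ 5`, in 3080 for `p ≠ 13`.
-/

set_option autoImplicit false

namespace Cfsg.Agent.H837.IMCFi22

open Cfsg Cfsg.Agent.H837.RankFix Cfsg.Agent.H690.Spor.RankThree Cfsg.Agent.H625.SylConst
  Cfsg.Agent.H870.IMFi22 Cfsg.Agent.LThreeFi22

universe u v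

/-- an integer between two consecutive squares is not a square -/
theorem no_sq {t v q : ℤ} (ht : 0 < t) (h : t * t = v) (hq : 0 ≤ q) (h1 : q * q < v)
    (h2 : v < (q + 1) * (q + 1)) : False := by
  rcases lt_or_ge q t with h3 | h3
  · nlinarith
  · nlinarith

theorem params {a b : ℕ} {r s : ℤ} {f g : ℕ} (h1 : 693 * 693 = 693 + 693 * a + 2816 * b) (h2 : s < r)
    (h3 : r + s = a - b) (h4 : r * s = b - 693) (h5 : f + g = 693 + 2816)
    (h6 : (f : ℤ) * (r - s) = -(s * (693 + 2816) + 693)) : f = 429 ∧ g = 3080 ∧ r = 63 ∧ s = -9 := by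
  have h8 : b % 63 = 0 := by omega
  obtain ⟨c, rfl⟩ : ∃ c, b = 63 * c := ⟨b / 63, by omega⟩
  have hsq : (r - s) * (r - s) = ((a : ℤ) - (63 * c : ℕ)) * (a - (63 * c : ℕ)) - 4 * (((63 * c : ℕ) : ℤ) - 693) := by
    rw [← h3, ← h4]
    ring
  have hc : c ≤ 2 := by omega
  have hpos : 0 < r - s := by omega
  interval_cases c
  · obtain rfl : a = 692 := by omega
    norm_num at hsq h3 h4
    have h9 : r - s = 694 := by nlinarith
    rw [h9] at h6
    omega
  · obtain rfl : a = 436 := by omega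
    norm_num at hsq
    exact (no_sq hpos hsq (q := 376) (by norm_num) (by norm_num) (by norm_num)).elim
  · obtain rfl : a = 180 := by omega
    norm_num at hsq h3 h4
    have h9 : r - s = 72 := by nlinarith
    rw [h9] at h6
    omega

theorem imc_ctx {K : Type v} [Group K] {T : Set K} (C : Ctx K T) {p : ℕ} [hp : Fact p.Prime]
    (hd : p ∣ 64561751654400) : IMC p K := by
  let _ := act C
  have := C.finite
  have h := r3 C
  have h5 : p ∣ 2 ^ 17 * 3 ^ 9 * 5 ^ 2 * 7 * 11 * 13 := by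
    norm_num
    exact hd
  have hpr := hp.out
  have key : (p ∣ 429 ∧ p ≠ 5) ∨ (p ∣ 3080 ∧ p ≠ 13) := by
    have pw : ∀ {q n : ℕ}, q.Prime → p ∣ q ^ n → p = q := fun hq h =>
      (Nat.prime_dvd_prime_iff_eq hpr hq).1 (hpr.dvd_of_dvd_pow h)
    have pw' : ∀ {q : ℕ}, q.Prime → p ∣ q → p = q := fun hq h => (Nat.prime_dvd_prime_iff_eq hpr hq).1 h
    rcases hpr.dvd_mul.1 h5 with h5 | h5
    · rcases hpr.dvd_mul.1 h5 with h5 | h5
      · rcases hpr.dvd_mul.1 h5 with h5 | h5
        · rcases hpr.dvd_mul.1 h5 with h5 | h5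
          · rcases hpr.dvd_mul.1 h5 with h5 | h5
            · obtain rfl := pw (by norm_num) h5
              exact Or.inr ⟨by norm_num, by norm_num⟩
            · obtain rfl := pw (by norm_num) h5
              exact Or.inl ⟨by norm_num, by norm_num⟩
          · obtain rfl := pw (by norm_num) h5
            exact Or.inr ⟨by norm_num, by norm_num⟩
        · obtain rfl := pw' (by norm_num) h5
          exact Or.inr ⟨by norm_num, by norm_num⟩
      · obtain rfl := pw' (by norm_num) h5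
        exact Or.inr ⟨by norm_num, by norm_num⟩
    · obtain rfl := pw' (by norm_num) h5
      exact Or.inl ⟨by norm_num, by norm_num⟩
  obtain ⟨χ, h6, h7⟩ := exists_fixAll h (by intro f D h; omega) (p := p) (by
    intro a b r s f g h1 h2 h3 h4 h5 h6 _
    obtain ⟨rfl, rfl, rfl, rfl⟩ := params h1 h2 h3 h4 h5 h6
    rcases key with ⟨h7, h8⟩ | ⟨h7, h8⟩
    · exact Or.inl ⟨h7, 5, by norm_num, (Nat.coprime_primes (by norm_num) hpr).2 (Ne.symm h8), by norm_num⟩
    · exact Or.inr ⟨h7, 13, by norm_num, (Nat.coprime_primes (by norm_num) hpr).2 (Ne.symm h8), by norm_num⟩)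
  exact h7.imc χ h6

/-- **S4526, the row `Fi₂₂`.** -/
theorem imc_fi22 {S : Type u} [Group S] [Finite S] (h : Cfsg.Spor.IsoFi22 S) {p : ℕ} [hp : Fact p.Prime]
    (hd : p ∣ Nat.card S) : IMC p S := by
  obtain ⟨e⟩ := h
  have C := Inst.ctx e
  refine imc_ctx C ?_
  rwa [C.card] at hd

end Cfsg.Agent.H837.IMCFi22
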