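import Cfsg.Agent.H837.RankFix
import Cfsg.Agent.H30.IMFi24
import Cfsg.Agent.H657.FourFi.Fi24
import Cfsg.Agent.SporRec.Fi24Index

/-!
# S4526: the row `Fi₂₄'` (helper837)

The rank 3 permutation character of `Fi₂₄` on the 306936 transpositions is `1 + 57477 + 249458`; all `p`-subgroups
have fixed vectors in 57477 for `p ≠ 29`, in 249458 for `p ≠ 7`. The primes 5 and 13 from `IM`, 2 from `Loc`.
-/

set_option autoImplicit false

namespace Cfsg.Agent.H837.IMCFi24

open Cfsg Cfsg.Agent.H837.RankFix Cfsg.Agent.H690.Spor.RankThree Cfsg.Agent.H625.SylConst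
open Cfsg.Agent.Characters.Core

universe u v

/-- the discriminants of the possible parameters -/
def disc (c : ℕ) : ℕ := Int.toNat ((31670 - 785 * (c : ℤ)) * (31670 - 785 * c) - 4 * (81 * c - 31671))

theorem chk : ∀ c : ℕ, c < 45 → c = 0 ∨ c = 40 ∨ Nat.sqrt (disc c) * Nat.sqrt (disc c) ≠ disc c := by
  decide +kernel

theorem params {a b : ℕ} {r s : ℤ} {f g : ℕ} (h1 : 31671 * 31671 = 31671 + 31671 * a + 275264 * b) (h2 : s < r)
    (h3 : r + s = a - b) (h4 : r * s = b - 31671) (h5 : f + g = 31671 + 275264)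
    (h6 : (f : ℤ) * (r - s) = -(s * (31671 + 275264) + 31671)) :
    f = 57477 ∧ g = 249458 ∧ r = 351 ∧ s = -81 := by
  have h8 : b % 81 = 0 := by omega
  obtain ⟨c, rfl⟩ : ∃ c, b = 81 * c := ⟨b / 81, by omega⟩
  have hc : c < 45 := by omega
  have ha : (a : ℤ) = 31670 - 704 * c := by omega
  have hpos : 0 < r - s := by omega
  have hsq : (r - s) * (r - s) = (31670 - 785 * (c : ℤ)) * (31670 - 785 * c) - 4 * (81 * c - 31671) := by
    have h9 : (r - s) * (r - s) = (r + s) * (r + s) - 4 * (r * s) := by ring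
    rw [h9, h3, h4, ha]
    push_cast
    ring
  have hrt : ∀ q : ℤ, 0 < q → (r - s) * (r - s) = q * q → r - s = q := by
    intro q hq h
    have h9 : (r - s - q) * (r - s + q) = 0 := by linear_combination h
    rcases mul_eq_zero.1 h9 with h10 | h10
    · omega
    · omega
  rcases chk c hc with h9 | h9 | h9
  · rw [h9] at ha hsq
    push_cast at h3 ha hsq
    rw [h9, ha] at h3
    have h10 := hrt 31672 (by norm_num) (by rw [hsq]; norm_num)
    have h11 : s = -1 := by omega
    rw [h10, h11] at h6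
    norm_num at h6
    exfalso
    omega
  · rw [h9] at ha hsq
    push_cast at h3 ha hsq
    rw [h9, ha] at h3
    have h10 := hrt 432 (by norm_num) (by rw [hsq]; norm_num)
    have h11 : s = -81 := by omega
    have h12 : r = 351 := by omega
    rw [h10, h11] at h6
    norm_num at h6
    have h13 : f = 57477 := by omega
    have h14 : g = 249458 := by omega
    exact ⟨h13, h14, h12, h11⟩
  · exfalso
    apply h9
    unfold disc
    rw [← hsq]
    obtain ⟨t, ht⟩ : ∃ t : ℕ, (t : ℤ) = r - s := ⟨(r - s).toNat, Int.toNat_of_nonneg hpos.le⟩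
    rw [← ht, ← Nat.cast_mul, Int.toNat_natCast, Nat.sqrt_eq]

theorem card_fi24 : Nat.card Spor.Fi24' = 1255205709190661721292800 := Cfsg.Agent.R08.FiTwentyFour.card_commutator

/-- the primes 3, 7, 11, 17, 23, 29 -/
theorem imc_rank {p : ℕ} [hp : Fact p.Prime] (h2 : p ≠ 2) (hs : IsSimpleGroup Spor.Fi24')
    (key : (p ∣ 57477 ∧ p ≠ 29) ∨ (p ∣ 249458 ∧ p ≠ 7)) : IMC p Spor.Fi24' := by
  have hpr := hp.out
  have := Cfsg.Agent.R08.FiTwentyFour.finite_Fi24
  obtain ⟨h1, -, q₁, q₂, h3, h4⟩ := Cfsg.Agent.SporRec.Fi24Index.index_and_suborbits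
  obtain ⟨R, hR⟩ := R3.of_index (k := 31671) (l := 275264) _ h1 h3 h4 (by norm_num) (by norm_num) (by norm_num)
  obtain ⟨χ, h6, h7⟩ := exists_fixAll hR (by intro f D h; omega) (p := p) (by
    intro a b r s f g h1 h2 h3 h4 h5 h6 _
    obtain ⟨rfl, rfl, rfl, rfl⟩ := params h1 h2 h3 h4 h5 h6
    rcases key with ⟨h7, h8⟩ | ⟨h7, h8⟩
    · exact Or.inl ⟨h7, 29, by norm_num, (Nat.coprime_primes (by norm_num) hpr).2 (Ne.symm h8), by norm_num⟩
    · exact Or.inr ⟨h7, 7, by norm_num, (Nat.coprime_primes (by norm_num) hpr).2 (Ne.symm h8), by norm_num⟩)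
  have hc : Subgroup.center ↥(commutator Spor.Fi24) = ⊥ := by
    have hs' : IsSimpleGroup ↥(commutator Spor.Fi24) := hs
    rcases (Subgroup.Normal.eq_bot_or_eq_top (inferInstance : (Subgroup.center ↥(commutator Spor.Fi24)).Normal)) with
      h | h
    · exact h
    · exfalso
      let _ : CommGroup ↥(commutator Spor.Fi24) := Group.commGroupOfCenterEqTop h
      have h8 : (Nat.card ↥(commutator Spor.Fi24)).Prime := IsSimpleGroup.prime_card (α := ↥(commutator Spor.Fi24))
      rw [show Nat.card ↥(commutator Spor.Fi24) = 1255205709190661721292800 from card_fi24] at h8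
      norm_num at h8
  have h8 : IMC p (↥(commutator Spor.Fi24) ⧸ Subgroup.center ↥(commutator Spor.Fi24)) := by
    refine H661.SC.imc_down (commutator Spor.Fi24) χ.2 h7 (d := charDegree (χ : Spor.Fi24 → ℂ))
      (Cfsg.Agent.Blocks.Basic.irr_one_eq_charDegree χ.2) ?_ (a := 1) (by rwa [pow_one]) ?_
    · intro z hz
      rw [hc, Subgroup.mem_bot] at hz
      rw [hz]
      rfl
    · rw [Cfsg.Agent.R08.FiTwentyFour.index_commutator, pow_one]
      intro h
      exact h2 ((Nat.prime_dvd_prime_iff_eq hpr Nat.prime_two).1 h)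
  have := Cfsg.Agent.H713.Spor.FiTF.finite'
  refine IMC.of_equiv (H := ↥(commutator Spor.Fi24) ⧸ Subgroup.center ↥(commutator Spor.Fi24)) ?_ h8
  exact ((QuotientGroup.quotientMulEquivOfEq hc).trans QuotientGroup.quotientBot).symm

/-- **S4526, the row `Fi₂₄'`.** -/
theorem imc_fi24 {S : Type u} [Group S] [Finite S] (h : Spor.IsoFi24' S) (hs : IsSimpleGroup S) {p : ℕ}
    [hp : Fact p.Prime] (hd : p ∣ Nat.card S) : IMC p S := by
  have him : H33.IM p S := H30.IMFi24.im_fi24 h hd
  have hloc := H657.FourFi.loc_Fi24 h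
  obtain ⟨e⟩ := h
  have hcard : Nat.card S = 1255205709190661721292800 := by rw [Nat.card_congr e.toEquiv, card_fi24]
  have hpr := hp.out
  rw [hcard] at hd
  have h5 : p ∣ 2 ^ 21 * 3 ^ 16 * 5 ^ 2 * 7 ^ 3 * 11 * 13 * 17 * 23 * 29 := by
    norm_num
    exact hd
  have key : p = 2 ∨ p = 5 ∨ p = 13 ∨ (p ≠ 2 ∧ ((p ∣ 57477 ∧ p ≠ 29) ∨ (p ∣ 249458 ∧ p ≠ 7))) := by
    have pw : ∀ {q n : ℕ}, q.Prime → p ∣ q ^ n → p = q := fun hq h =>
      (Nat.prime_dvd_prime_iff_eq hpr hq).1 (hpr.dvd_of_dvd_pow h)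
    have pw' : ∀ {q : ℕ}, q.Prime → p ∣ q → p = q := fun hq h => (Nat.prime_dvd_prime_iff_eq hpr hq).1 h
    rcases hpr.dvd_mul.1 h5 with h5 | h5
    · rcases hpr.dvd_mul.1 h5 with h5 | h5
      · rcases hpr.dvd_mul.1 h5 with h5 | h5
        · rcases hpr.dvd_mul.1 h5 with h5 | h5
          · rcases hpr.dvd_mul.1 h5 with h5 | h5
            · rcases hpr.dvd_mul.1 h5 with h5 | h5
              · rcases hpr.dvd_mul.1 h5 with h5 | h5
                · rcases hpr.dvd_mul.1 h5 with h5 | h5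
                  · exact Or.inl (pw (by norm_num) h5)
                  · obtain rfl := pw (by norm_num) h5
                    exact Or.inr (Or.inr (Or.inr ⟨by norm_num, Or.inl ⟨by norm_num, by norm_num⟩⟩))
                · exact Or.inr (Or.inl (pw (by norm_num) h5))
              · obtain rfl := pw (by norm_num) h5
                exact Or.inr (Or.inr (Or.inr ⟨by norm_num, Or.inl ⟨by norm_num, by norm_num⟩⟩))
            · obtain rfl := pw' (by norm_num) h5
              exact Or.inr (Or.inr (Or.inr ⟨by norm_num, Or.inr ⟨by norm_num, by norm_num⟩⟩))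
          · exact Or.inr (Or.inr (Or.inl (pw' (by norm_num) h5)))
        · obtain rfl := pw' (by norm_num) h5
          exact Or.inr (Or.inr (Or.inr ⟨by norm_num, Or.inl ⟨by norm_num, by norm_num⟩⟩))
      · obtain rfl := pw' (by norm_num) h5
        exact Or.inr (Or.inr (Or.inr ⟨by norm_num, Or.inl ⟨by norm_num, by norm_num⟩⟩))
    · obtain rfl := pw' (by norm_num) h5
      exact Or.inr (Or.inr (Or.inr ⟨by norm_num, Or.inr ⟨by norm_num, by norm_num⟩⟩))
  rcases key with rfl | rfl | rfl | ⟨h2, key⟩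
  · exact H661.SC.imc_of_loc hloc
  · refine H661.SC.imc_of_IM ?_ him
    rw [hcard]
    norm_num
  · refine H661.SC.imc_of_IM ?_ him
    rw [hcard]
    norm_num
  · exact IMC.of_equiv e (imc_rank h2 (e.symm.isSimpleGroup) key)

end Cfsg.Agent.H837.IMCFi24
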