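import Cfsg.Agent.H199.PslAut
import Cfsg.Agent.H366.LThreeFour

/-!
# `L₃(4)` extended by two: elements of order 8 (helper837)

* `exists_conj_mul` : an automorphism of `PSL₃(4)` which is not inner and whose square is inner is congruent, modulo
  inner automorphisms, to an automorphism of order 8;
* `exists_eight` : a group with a normal subgroup of index two isomorphic to `PSL₃(4)` and with trivial centralizer has
  elements of order 8.
-/

set_option autoImplicit false
set_option linter.unusedVariables false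

namespace Cfsg.Agent.H837.LThreeFourTwo

open Matrix
open Cfsg.Agent.ClassicalGeometry.AutPSL.Root
open Cfsg.Agent.ClassicalGeometry.AutPSL.Auto
open Cfsg.Agent.ClassicalGeometry.AutPSL.Main
open Cfsg.Agent.H199.PslAut Cfsg.Agent.H366.LThreeFour

variable {F : Type*} [Field F]

section

variable {w u : F} (h : IsW w u)

/-- the matrices -/
def Nf (h : IsW w u) : GL (Fin 3) F := SpecialLinearGroup.toGL (el !![0, 0, 1; 1, 0, 0; 0, 1, w] (by f4det h))
def Kf (h : IsW w u) : GL (Fin 3) F := SpecialLinearGroup.toGL (el !![0, 1, u; 0, 0, 1; 1, w, 1] (by f4det h))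
def Ng (h : IsW w u) : GL (Fin 3) F := SpecialLinearGroup.toGL (el !![0, 0, 1; 0, 1, 0; 1, 1, 0] (by f4det h))
def Kg (h : IsW w u) : GL (Fin 3) F := SpecialLinearGroup.toGL (el !![1, 0, 0; 1, 1, 0; 1, 1, 1] (by f4det h))

theorem coe_Nf : ((Nf h : GL (Fin 3) F) : Matrix (Fin 3) (Fin 3) F) = !![0, 0, 1; 1, 0, 0; 0, 1, w] := rfl
theorem coe_Kf : ((Kf h : GL (Fin 3) F) : Matrix (Fin 3) (Fin 3) F) = !![0, 1, u; 0, 0, 1; 1, w, 1] := rfl
theorem coe_Ng : ((Ng h : GL (Fin 3) F) : Matrix (Fin 3) (Fin 3) F) = !![0, 0, 1; 0, 1, 0; 1, 1, 0] := rfl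
theorem coe_Kg : ((Kg h : GL (Fin 3) F) : Matrix (Fin 3) (Fin 3) F) = !![1, 0, 0; 1, 1, 0; 1, 1, 1] := rfl

theorem det_Nf : GeneralLinearGroup.det (Nf h) = 1 := by
  apply Units.ext
  exact (el !![0, 0, 1; 1, 0, 0; 0, 1, w] (by f4det h)).2

theorem det_Ng : GeneralLinearGroup.det (Ng h) = 1 := by
  apply Units.ext
  exact (el !![0, 0, 1; 0, 1, 0; 1, 1, 0] (by f4det h)).2

theorem Kf_four : Kf h ^ 4 = 1 := by
  apply Units.ext
  rw [Units.val_pow_eq_pow_val, Units.val_one, coe_Kf, show (4 : ℕ) = 2 + 2 by norm_num, pow_add, pow_two]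
  have h1 : (!![0, 1, u; 0, 0, 1; 1, w, 1] * !![0, 1, u; 0, 0, 1; 1, w, 1] : Matrix (Fin 3) (Fin 3) F) =
      !![u, 1, w; 1, w, 1; 1, u, 0] := by f4 h
  rw [h1]
  f4 h

theorem Kf_two : ((Kf h ^ 2 : GL (Fin 3) F) : Matrix (Fin 3) (Fin 3) F) = !![u, 1, w; 1, w, 1; 1, u, 0] := by
  rw [Units.val_pow_eq_pow_val, coe_Kf, pow_two]
  f4 h

theorem Kg_two : ((Kg h ^ 2 : GL (Fin 3) F) : Matrix (Fin 3) (Fin 3) F) = !![1, 0, 0; 0, 1, 0; 1, 0, 1] := by
  rw [Units.val_pow_eq_pow_val, coe_Kg, pow_two]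
  f4 h

theorem Kg_four : Kg h ^ 4 = 1 := by
  apply Units.ext
  rw [show (4 : ℕ) = 2 * 2 by norm_num, pow_mul, Units.val_pow_eq_pow_val, Kg_two, pow_two, Units.val_one]
  f4 h

theorem Ng_Kg : Ng h * itGL (Ng h) = Kg h := by
  rw [← eq_mul_inv_iff_mul_eq]
  apply Units.ext
  rw [Units.val_mul, coe_itGL_inv, coe_Ng, coe_Kg]
  f4 h

theorem Psi_Kf : Psi 3 F (Kf h ^ 2) ≠ 1 := by
  intro h1
  obtain ⟨c, hc⟩ := (Psi_eq_one_iff (by norm_num)).1 h1
  have h2 := congrArg (fun M : GL (Fin 3) F => (M : Matrix (Fin 3) (Fin 3) F) 0 1) hc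
  simp only [Kf_two, coe_scal] at h2
  simp at h2

theorem Psi_Kg : Psi 3 F (Kg h ^ 2) ≠ 1 := by
  intro h1
  obtain ⟨c, hc⟩ := (Psi_eq_one_iff (by norm_num)).1 h1
  have h2 := congrArg (fun M : GL (Fin 3) F => (M : Matrix (Fin 3) (Fin 3) F) 2 0) hc
  simp only [Kg_two, coe_scal] at h2
  simp at h2

theorem order_of_sq {G : Type*} [Group G] {b k : G} (hb : b * b = k) (h2 : k ^ 2 ≠ 1) (h4 : k ^ 4 = 1) :
    orderOf b = 8 := by
  have h1 : ¬ b ^ 2 ^ 2 = 1 := by
    rw [show (2 : ℕ) ^ 2 = 2 * 2 by norm_num, pow_mul, pow_two b, hb]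
    exact h2
  have h3 : b ^ 2 ^ (2 + 1) = 1 := by
    rw [show (2 : ℕ) ^ (2 + 1) = 2 * 4 by norm_num, pow_mul, pow_two b, hb]
    exact h4
  rw [orderOf_eq_prime_pow h1 h3]
  norm_num

/-! ### The field -/

include h in
theorem mem_four [Fintype F] (hF : Fintype.card F = 4) (x : F) : x = 0 ∨ x = 1 ∨ x = w ∨ x = u := by
  have h1 := FiniteField.pow_card x
  rw [hF] at h1
  have h2 : x * ((x - 1) * ((x - w) * (x - u))) = 0 := by
    have e1 : (x - w) * (x - u) = x ^ 2 + x + 1 := by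
      linear_combination (-x) * h.awu + h.wu - x * h.two
    rw [e1]
    linear_combination h1
  rcases mul_eq_zero.1 h2 with h3 | h3
  · exact Or.inl h3
  rcases mul_eq_zero.1 h3 with h4 | h4
  · exact Or.inr (Or.inl (sub_eq_zero.1 h4))
  rcases mul_eq_zero.1 h4 with h5 | h5
  · exact Or.inr (Or.inr (Or.inl (sub_eq_zero.1 h5)))
  · exact Or.inr (Or.inr (Or.inr (sub_eq_zero.1 h5)))

include h in
theorem map_w [Fintype F] (hF : Fintype.card F = 4) {σ : F ≃+* F} (hσ : σ ≠ 1) : σ w = u ∧ σ u = w := by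
  have hu : σ u = σ w * σ w := by rw [← map_mul, h.ww]
  have hs : 1 + σ w + σ w * σ w = 0 := by
    rw [← hu, ← map_one σ, ← map_add, ← map_add, h.sum, map_zero]
  have h1 : σ w = u := by
    rcases mem_four h hF (σ w) with h2 | h2 | h2 | h2
    · rw [h2] at hs; simp at hs
    · rw [h2] at hs
      exfalso
      have h3 : (1 : F) = 0 := by linear_combination hs - h.two
      exact one_ne_zero h3
    · exfalso
      apply hσ
      apply RingEquiv.ext
      intro x
      rcases mem_four h hF x with rfl | rfl | rfl | rfl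
      · exact map_zero σ
      · exact map_one σ
      · exact h2
      · rw [hu, h2, h.ww]; rfl
    · exact h2
  exact ⟨h1, by rw [hu, h1, h.uu]⟩

include h in
theorem map_eq_sq [Fintype F] (hF : Fintype.card F = 4) {σ : F ≃+* F} (hσ : σ ≠ 1) (x : F) : σ x = x * x := by
  obtain ⟨h1, h2⟩ := map_w h hF hσ
  rcases mem_four h hF x with rfl | rfl | rfl | rfl
  · rw [map_zero, mul_zero]
  · rw [map_one, mul_one]
  · rw [h1, h.ww]
  · rw [h2, h.uu]

include h in
theorem sq_one [Fintype F] (hF : Fintype.card F = 4) {σ : F ≃+* F} (hσ : σ ≠ 1) : σ * σ = 1 := by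
  apply RingEquiv.ext
  intro x
  show σ (σ x) = x
  rw [map_eq_sq h hF hσ x, map_mul, map_eq_sq h hF hσ x]
  have h1 := FiniteField.pow_card x
  rw [hF] at h1
  linear_combination h1

theorem units_cube [Fintype F] (hF : Fintype.card F = 4) (c : Fˣ) : c ^ 3 = 1 := by
  classical
  have h1 : Fintype.card Fˣ = 3 := by
    have h2 := Fintype.card_units (α := F)
    rw [hF] at h2
    exact h2
  rw [← h1]
  exact pow_card_eq_one

theorem exists_det (p : Fˣ) : ∃ P : GL (Fin 3) F, GeneralLinearGroup.det P = p := by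
  refine ⟨GeneralLinearGroup.mkOfDetNeZero (Matrix.diagonal ![1, 1, (p : F)]) ?_, ?_⟩
  · rw [Matrix.det_diagonal, Fin.prod_univ_three]
    simp
  · apply Units.ext
    show (Matrix.diagonal ![1, 1, (p : F)]).det = p
    rw [Matrix.det_diagonal, Fin.prod_univ_three]
    simp

theorem det_scal (c : Fˣ) : GeneralLinearGroup.det (scal 3 F c) = c ^ 3 := by
  apply Units.ext
  show ((scalar (Fin 3) (c : F)) : Matrix (Fin 3) (Fin 3) F).det = _
  rw [Matrix.scalar_apply, Matrix.det_diagonal]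
  simp

theorem det_itGL (A : GL (Fin 3) F) : GeneralLinearGroup.det (itGL A) = (GeneralLinearGroup.det A)⁻¹ := by
  rw [← map_inv]
  apply Units.ext
  show (((A⁻¹ : GL (Fin 3) F) : Matrix (Fin 3) (Fin 3) F)ᵀ).det = ((A⁻¹ : GL (Fin 3) F) : Matrix (Fin 3) (Fin 3) F).det
  rw [Matrix.det_transpose]

theorem det_mapGL (σ : F ≃+* F) (A : GL (Fin 3) F) :
    ((GeneralLinearGroup.det (mapGL σ A) : Fˣ) : F) = σ ((GeneralLinearGroup.det A : Fˣ) : F) := by
  show ((A : Matrix (Fin 3) (Fin 3) F).map (σ : F →+* F)).det = σ ((A : Matrix (Fin 3) (Fin 3) F).det)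
  exact (RingHom.map_det (σ : F →+* F) (A : Matrix (Fin 3) (Fin 3) F)).symm

/-- the inner automorphisms -/
theorem exists_inner {A : GL (Fin 3) F} (hA : GeneralLinearGroup.det A = 1) :
    ∃ x : ProjectiveSpecialLinearGroup (Fin 3) F, Psi 3 F A = MulAut.conj x := by
  have h1 : (A : Matrix (Fin 3) (Fin 3) F).det = 1 := congrArg Units.val hA
  obtain ⟨s, hs⟩ : ∃ s : SpecialLinearGroup (Fin 3) F, (s : GL (Fin 3) F) = A := ⟨⟨A, h1⟩, Units.ext rfl⟩
  exact ⟨pr s, by rw [← hs]; exact Psi_coe s⟩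

theorem det_of_inner [Fintype F] (hF : Fintype.card F = 4) {A : GL (Fin 3) F}
    {x : ProjectiveSpecialLinearGroup (Fin 3) F} (hx : Psi 3 F A = MulAut.conj x) :
    GeneralLinearGroup.det A = 1 := by
  obtain ⟨s, rfl⟩ := pr_surjective x
  rw [← Psi_coe, Psi_eq_Psi_iff (by norm_num)] at hx
  obtain ⟨c, hc⟩ := hx
  rw [hc, map_mul, det_scal, units_cube hF, one_mul]
  apply Units.ext
  exact s.2

end

/-- the automorphism congruent to `α` -/
theorem reduce {A N : GL (Fin 3) F} (hd : GeneralLinearGroup.det N = GeneralLinearGroup.det A)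
    (γ : MulAut (ProjectiveSpecialLinearGroup (Fin 3) F)) :
    ∃ x : ProjectiveSpecialLinearGroup (Fin 3) F, MulAut.conj x * (Psi 3 F A * γ) = Psi 3 F N * γ := by
  obtain ⟨x, hx⟩ := exists_inner (A := N * A⁻¹) (by rw [map_mul, map_inv, hd, mul_inv_cancel])
  refine ⟨x, ?_⟩
  rw [← hx, map_mul, map_inv]
  group

/-- **Automorphisms of `PSL₃(4)`.** -/
theorem exists_conj_mul [Fintype F] (hF : Fintype.card F = 4) (α : MulAut (ProjectiveSpecialLinearGroup (Fin 3) F))
    (h1 : ∀ x, α ≠ MulAut.conj x) (h2 : ∃ x, α * α = MulAut.conj x) : ∃ x, orderOf (MulAut.conj x * α) = 8 := by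
  obtain ⟨w, u, h⟩ := exists_isW hF
  obtain ⟨z, hz⟩ := h2
  have cube := units_cube (F := F) hF
  rcases exists_form (n := 3) (by norm_num) α with ⟨A, σ, rfl⟩ | ⟨-, A, σ, rfl⟩
  · by_cases hσ : σ = 1
    · exfalso
      subst hσ
      rw [map_one, mul_one, ← map_mul] at hz
      have h3 := det_of_inner hF hz
      rw [map_mul] at h3
      obtain ⟨x, hx⟩ := exists_inner (A := A) (by
        have h4 := cube (GeneralLinearGroup.det A)
        rwa [pow_succ, pow_two, h3, one_mul] at h4)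
      exact h1 x (by rw [map_one, mul_one, hx])
    · obtain ⟨P, hP⟩ := exists_det (F := F) (GeneralLinearGroup.det A)⁻¹
      have hs : phi 3 F σ * phi 3 F σ = 1 := by rw [← map_mul, sq_one h hF hσ, map_one]
      have hm : mapGL σ P = mapGL σ P := rfl
      obtain ⟨x, hx⟩ := reduce (A := A) (N := P * Nf h * (mapGL σ P)⁻¹) (by
        rw [map_mul, map_mul, map_inv, det_Nf, mul_one, hP]
        have h3 : GeneralLinearGroup.det (mapGL σ P) = (GeneralLinearGroup.det A)⁻¹ * (GeneralLinearGroup.det A)⁻¹ := by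
          apply Units.ext
          rw [det_mapGL, hP, map_eq_sq h hF hσ, Units.val_mul]
        rw [h3]
        group) (phi 3 F σ)
      refine ⟨x, ?_⟩
      rw [hx]
      have h4 : Psi 3 F (P * Nf h * (mapGL σ P)⁻¹) * phi 3 F σ =
          Psi 3 F P * (Psi 3 F (Nf h) * phi 3 F σ) * (Psi 3 F P)⁻¹ := by
        have h5 : phi 3 F σ * (Psi 3 F P)⁻¹ = Psi 3 F (mapGL σ P)⁻¹ * phi 3 F σ := by
          rw [← map_inv, phi_mul_Psi, map_inv (mapGL σ)]
        rw [map_mul, map_mul, mul_assoc (Psi 3 F P) (Psi 3 F (Nf h) * phi 3 F σ), mul_assoc (Psi 3 F (Nf h)), h5]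
        simp only [mul_assoc]
      rw [h4, ← MulAut.conj_apply, MulEquiv.orderOf_eq]
      refine order_of_sq (k := Psi 3 F (Kf h)) ?_ (by rw [← map_pow]; exact Psi_Kf h)
        (by rw [← map_pow, Kf_four, map_one])
      have h6 : Nf h * mapGL σ (Nf h) = Kf h := by
        apply Units.ext
        rw [Units.val_mul, coe_mapGL, coe_Nf, coe_Kf]
        have h7 : (!![0, 0, 1; 1, 0, 0; 0, 1, w] : Matrix (Fin 3) (Fin 3) F).map σ = !![0, 0, 1; 1, 0, 0; 0, 1, u] := by
          ext i j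
          fin_cases i <;> fin_cases j <;> simp [(map_w h hF hσ).1]
        rw [h7]
        f4 h
      calc Psi 3 F (Nf h) * phi 3 F σ * (Psi 3 F (Nf h) * phi 3 F σ)
          = Psi 3 F (Nf h) * (phi 3 F σ * Psi 3 F (Nf h)) * phi 3 F σ := by simp only [mul_assoc]
        _ = Psi 3 F (Nf h) * (Psi 3 F (mapGL σ (Nf h)) * phi 3 F σ) * phi 3 F σ := by rw [phi_mul_Psi]
        _ = Psi 3 F (Nf h) * Psi 3 F (mapGL σ (Nf h)) * (phi 3 F σ * phi 3 F σ) := by simp only [mul_assoc]
        _ = Psi 3 F (Kf h) := by rw [hs, mul_one, ← map_mul, h6]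
  · by_cases hσ : σ = 1
    · subst hσ
      obtain ⟨P, hP⟩ := exists_det (F := F) (GeneralLinearGroup.det A ^ 2)
      obtain ⟨x, hx⟩ := reduce (A := A) (N := P * Ng h * (itGL P)⁻¹) (by
        rw [map_mul, map_mul, map_inv, det_Ng, mul_one, det_itGL, inv_inv, hP, ← pow_add]
        have h3 := cube (GeneralLinearGroup.det A)
        rw [show 2 + 2 = 3 + 1 by norm_num, pow_succ, h3, one_mul]) (phi 3 F 1 * iot 3 F)
      refine ⟨x, ?_⟩
      rw [mul_assoc (Psi 3 F A), hx, map_one, one_mul]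
      have h4 : Psi 3 F (P * Ng h * (itGL P)⁻¹) * iot 3 F =
          Psi 3 F P * (Psi 3 F (Ng h) * iot 3 F) * (Psi 3 F P)⁻¹ := by
        have h5 : iot 3 F * (Psi 3 F P)⁻¹ = Psi 3 F (itGL P)⁻¹ * iot 3 F := by
          rw [← map_inv, iot_mul_Psi, map_inv itGL]
        rw [map_mul, map_mul, mul_assoc (Psi 3 F P) (Psi 3 F (Ng h) * iot 3 F), mul_assoc (Psi 3 F (Ng h)), h5]
        simp only [mul_assoc]
      rw [h4, ← MulAut.conj_apply, MulEquiv.orderOf_eq]
      refine order_of_sq (k := Psi 3 F (Kg h)) ?_ (by rw [← map_pow]; exact Psi_Kg h)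
        (by rw [← map_pow, Kg_four, map_one])
      calc Psi 3 F (Ng h) * iot 3 F * (Psi 3 F (Ng h) * iot 3 F)
          = Psi 3 F (Ng h) * (iot 3 F * Psi 3 F (Ng h)) * iot 3 F := by simp only [mul_assoc]
        _ = Psi 3 F (Ng h) * (Psi 3 F (itGL (Ng h)) * iot 3 F) * iot 3 F := by rw [iot_mul_Psi]
        _ = Psi 3 F (Ng h) * Psi 3 F (itGL (Ng h)) * (iot 3 F * iot 3 F) := by simp only [mul_assoc]
        _ = Psi 3 F (Kg h) := by rw [iot_mul_iot, mul_one, ← map_mul, Ng_Kg]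
    · have hs : phi 3 F σ * phi 3 F σ = 1 := by rw [← map_mul, sq_one h hF hσ, map_one]
      have key : ∀ B : GL (Fin 3) F, Psi 3 F B * phi 3 F σ * iot 3 F * (Psi 3 F B * phi 3 F σ * iot 3 F) =
          Psi 3 F (B * itGL (mapGL σ B)) := by
        intro B
        have e1 : Psi 3 F B * phi 3 F σ * iot 3 F = Psi 3 F B * (iot 3 F * phi 3 F σ) := by
          rw [iot_mul_phi, mul_assoc]
        have e2 : iot 3 F * phi 3 F σ * (iot 3 F * phi 3 F σ) = 1 := by
          calc iot 3 F * phi 3 F σ * (iot 3 F * phi 3 F σ) = phi 3 F σ * iot 3 F * (iot 3 F * phi 3 F σ) := by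
                rw [iot_mul_phi]
            _ = phi 3 F σ * (iot 3 F * iot 3 F) * phi 3 F σ := by simp only [mul_assoc]
            _ = 1 := by rw [iot_mul_iot, mul_one, hs]
        rw [e1]
        calc Psi 3 F B * (iot 3 F * phi 3 F σ) * (Psi 3 F B * (iot 3 F * phi 3 F σ))
            = Psi 3 F B * (iot 3 F * (phi 3 F σ * Psi 3 F B)) * (iot 3 F * phi 3 F σ) := by simp only [mul_assoc]
          _ = Psi 3 F B * ((iot 3 F * Psi 3 F (mapGL σ B)) * phi 3 F σ) * (iot 3 F * phi 3 F σ) := by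
              rw [phi_mul_Psi]; simp only [mul_assoc]
          _ = Psi 3 F B * Psi 3 F (itGL (mapGL σ B)) * (iot 3 F * phi 3 F σ * (iot 3 F * phi 3 F σ)) := by
              rw [iot_mul_Psi]; simp only [mul_assoc]
          _ = _ := by rw [e2, mul_one, ← map_mul]
      rw [key] at hz
      have h3 := det_of_inner hF hz
      rw [map_mul, det_itGL, mul_inv_eq_one] at h3
      have h4 : GeneralLinearGroup.det A = GeneralLinearGroup.det A * GeneralLinearGroup.det A := by
        apply Units.ext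
        rw [Units.val_mul, ← map_eq_sq h hF hσ, ← det_mapGL, ← h3]
      have h5 : GeneralLinearGroup.det A = 1 := by
        exact (mul_eq_left.1 h4.symm)
      obtain ⟨x, hx⟩ := reduce (A := A) (N := Ng h) (by rw [det_Ng, h5]) (phi 3 F σ * iot 3 F)
      refine ⟨x, ?_⟩
      rw [mul_assoc (Psi 3 F A), hx, ← mul_assoc]
      refine order_of_sq (k := Psi 3 F (Kg h)) ?_ (by rw [← map_pow]; exact Psi_Kg h)
        (by rw [← map_pow, Kg_four, map_one])
      have h6 : mapGL σ (Ng h) = Ng h := by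
        apply Units.ext
        rw [coe_mapGL, coe_Ng]
        ext i j
        fin_cases i <;> fin_cases j <;> simp
      rw [key, h6, Ng_Kg]

/-- **`L₃(4)` extended by two has elements of order 8.** -/
theorem exists_eight [Fintype F] (hF : Fintype.card F = 4) {Q : Type*} [Group Q] (S : Subgroup Q) [S.Normal]
    (hC : Subgroup.centralizer (S : Set Q) = ⊥) (e : ↥S ≃* ProjectiveSpecialLinearGroup (Fin 3) F)
    (hi : S.index = 2) : ∃ x : Q, orderOf x = 8 := by
  let Φ : Q →* MulAut (ProjectiveSpecialLinearGroup (Fin 3) F) :=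
    (MulAut.congr e).toMonoidHom.comp (MulAut.conjNormal : Q →* MulAut ↥S)
  have hinj : Function.Injective Φ := by
    rw [injective_iff_map_eq_one]
    intro x hx
    have h1 : (MulAut.conjNormal x : MulAut ↥S) = 1 := (MulAut.congr e).injective (by rw [map_one]; exact hx)
    have h2 : x ∈ Subgroup.centralizer (S : Set Q) := by
      rw [Subgroup.mem_centralizer_iff]
      intro s hs
      have h3 : (MulAut.conjNormal x : MulAut ↥S) ⟨s, hs⟩ = ⟨s, hs⟩ := by rw [h1]; rfl
      have h4 : x * s * x⁻¹ = s := congrArg Subtype.val h3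
      exact (mul_inv_eq_iff_eq_mul.1 h4).symm
    rw [hC] at h2
    exact Subgroup.mem_bot.1 h2
  have hS : ∀ s : ↥S, Φ (s : Q) = MulAut.conj (e s) := by
    intro s
    apply MulEquiv.ext
    intro y
    show e ((MulAut.conjNormal (s : Q) : MulAut ↥S) (e.symm y)) = e s * y * (e s)⁻¹
    have h1 : (MulAut.conjNormal (s : Q) : MulAut ↥S) (e.symm y) = s * e.symm y * s⁻¹ :=
      Subtype.ext (MulAut.conjNormal_apply _ _)
    rw [h1, map_mul, map_mul, map_inv, MulEquiv.apply_symm_apply]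
  obtain ⟨g, hg⟩ : ∃ g : Q, g ∉ S := by
    by_contra hcon
    push Not at hcon
    have h1 : S = ⊤ := by rw [eq_top_iff]; intro x _; exact hcon x
    rw [h1, Subgroup.index_top] at hi
    norm_num at hi
  obtain ⟨x, hx⟩ := exists_conj_mul hF (Φ g) (by
    intro x hx
    apply hg
    have h1 : Φ g = Φ ((e.symm x : ↥S) : Q) := by rw [hS, MulEquiv.apply_symm_apply, hx]
    rw [hinj h1]
    exact (e.symm x).2) ⟨e ⟨g * g, Subgroup.mul_self_mem_of_index_two hi g⟩, by rw [← map_mul, ← hS]⟩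
  refine ⟨((e.symm x : ↥S) : Q) * g, ?_⟩
  rw [← orderOf_injective Φ hinj, map_mul, hS, MulEquiv.apply_symm_apply]
  exact hx

end Cfsg.Agent.H837.LThreeFourTwo
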