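import Cfsg.Agent.H940.SepTyp
import Cfsg.Agent.H876.NondegMax
import Cfsg.Agent.H918.UBase
import Cfsg.Agent.ClassicalGeometry.PSUAutBasic

/-!
# Maximal subgroups of the unitary groups: stabilisers of non-degenerate subspaces (helper837, for S5906, S5907)

* `isCoatom_comap_of_maxIn` : transfer of `Geo.IsMaximalIn` along `φ : G →* GL` with `φ.range = K`.
* `stU W`, `stP W` : the stabiliser of `W` in `SU n F q` and its image in `PSU n F q`.
* `coatom_stU`, `coatom_stP`, `dvd_index_stP`, `not_conj_stP`.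
* `psu_five_ge6` : `Sep 5 (PSU n F q)` for `6 ≤ n`.
-/

set_option autoImplicit false

namespace Cfsg.Agent.H837.MCU

open Cfsg Cfsg.Agent.LieClassical.HermBasic Cfsg.Agent.LieClassical.HermSiegel
  Cfsg.Agent.ClassicalGeometry.PSUAutBasic Cfsg.Agent.H918 Cfsg.Agent.H876 Cfsg.Agent.H940 Cfsg.Agent.H940.MaxCls
  Cfsg.Agent.ClassicalGeometry.HermOrtho
open scoped Matrix MatrixGroups

/-! ### Transfer -/

theorem isCoatom_comap_of_maxIn {G L : Type*} [Group G] [Group L] (φ : G →* L) {K M : Subgroup L}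
    (hr : φ.range = K) (h : Geo.IsMaximalIn K (M ⊓ K)) : IsCoatom (M.comap φ) := by
  refine ⟨fun ht => ?_, fun N hN => ?_⟩
  · apply h.1.ne
    apply inf_eq_right.2
    rw [← hr]
    rintro _ ⟨g, rfl⟩
    have : g ∈ M.comap φ := by rw [ht]; exact Subgroup.mem_top g
    exact this
  · have h1 : M ⊓ K ≤ N.map φ := by
      rintro x ⟨hx, hxK⟩
      rw [← hr] at hxK
      obtain ⟨g, rfl⟩ := hxK
      exact Subgroup.mem_map_of_mem φ (hN.le hx)
    have h2 : N.map φ ≤ K := by
      rw [← hr]
      exact Subgroup.map_le_range φ N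
    rcases h.2 _ h1 h2 with h3 | h3
    · exfalso
      refine absurd hN (not_lt_of_ge fun g hg => ?_)
      have h4 : φ g ∈ N.map φ := Subgroup.mem_map_of_mem φ hg
      rw [h3] at h4
      exact h4.1
    · have hker : φ.ker ≤ N := fun g hg => hN.le (by
        rw [Subgroup.mem_comap, MonoidHom.mem_ker.1 hg]
        exact M.one_mem)
      refine top_le_iff.1 fun g _ => ?_
      have h4 : φ g ∈ N.map φ := by
        rw [h3, ← hr]
        exact ⟨g, rfl⟩
      obtain ⟨y, hy, hyg⟩ := h4
      have h5 : y⁻¹ * g ∈ φ.ker := by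
        rw [MonoidHom.mem_ker, map_mul, map_inv, hyg, inv_mul_cancel]
      have h6 := N.mul_mem hy (hker h5)
      rwa [mul_inv_cancel_left] at h6

/-- the image of a subgroup containing the kernel -/
theorem mem_map_iff_of_ker_le {G L : Type*} [Group G] [Group L] {f : G →* L} {K : Subgroup G} (hK : f.ker ≤ K) {x : G} :
    f x ∈ K.map f ↔ x ∈ K := by
  constructor
  · rintro ⟨y, hy, hyx⟩
    have h5 : y⁻¹ * x ∈ f.ker := by
      rw [MonoidHom.mem_ker, map_mul, map_inv, hyx, inv_mul_cancel]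
    have h6 := K.mul_mem hy (hK h5)
    rwa [mul_inv_cancel_left] at h6
  · intro h
    exact Subgroup.mem_map_of_mem f h

theorem index_map_of_ker_le {G L : Type*} [Group G] [Group L] {f : G →* L} (hf : Function.Surjective f)
    {K : Subgroup G} (hK : f.ker ≤ K) : (K.map f).index = K.index := by
  rw [Subgroup.index_map, sup_eq_left.2 hK, MonoidHom.range_eq_top.2 hf, Subgroup.index_top, mul_one]

/-- two subgroups containing the kernel whose images are conjugate are conjugate -/
theorem conj_of_map_conj {G L : Type*} [Group G] [Group L] {f : G →* L} {K K' : Subgroup G} (hK : f.ker ≤ K)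
    (hK' : f.ker ≤ K') {g : G} (h : Subgroup.map (MulAut.conj (f g)).toMonoidHom (K.map f) = K'.map f) :
    Subgroup.map (MulAut.conj g).toMonoidHom K = K' := by
  ext x
  rw [mem_map_conj, ← mem_map_iff_of_ker_le hK (f := f), ← mem_map_iff_of_ker_le hK' (f := f), ← h, mem_map_conj,
    map_mul, map_mul, map_inv]

section U

variable {F : Type*} [Field F] [Fintype F] {n q : ℕ}

/-- the stabiliser of `W` in `SU n F q` -/
def stU (q : ℕ) (W : Submodule F (Fin n → F)) : Subgroup (SU n F q) :=
  (Geo.subspaceStabilizer W).comap (suHom n F q)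

theorem mem_stU {W : Submodule F (Fin n → F)} {g : SU n F q} : g ∈ stU q W ↔ ∀ v, v ∈ W ↔ act g v ∈ W := Iff.rfl

theorem mem_stU_of_le {W : Submodule F (Fin n → F)} {g : SU n F q} (h : ∀ v ∈ W, act g v ∈ W) : g ∈ stU q W :=
  mem_stab_of_le (g := suHom n F q g) h

/-- the image of the stabiliser of `W` in `PSU n F q` -/
def stP (q : ℕ) (W : Submodule F (Fin n → F)) : Subgroup (PSU n F q) := (stU q W).map (pr n F q)

theorem ker_pr : (pr n F q).ker = Subgroup.center (SU n F q) := QuotientGroup.ker_mk' _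

variable (hF : Fintype.card F = q ^ 2)

include hF

theorem ker_le_stU (hn : 3 ≤ n) (W : Submodule F (Fin n → F)) : (pr n F q).ker ≤ stU q W := by
  intro z hz
  rw [ker_pr] at hz
  obtain ⟨c, hc0, -, hc⟩ := exists_scalar_of_mem_center hF hn hz
  refine mem_stU_of_le fun v hv => ?_
  rw [hc]
  exact W.smul_mem c hv

theorem coatom_stU (hn : 3 ≤ n) (h32 : ¬ (n = 3 ∧ q = 2)) {W : Submodule F (Fin n → F)} (hW0 : W ≠ ⊥)
    (hW : Geo.IsNondegenerateOn (hermForm n F q) W) (hdim : 2 * Module.finrank F W < n) : IsCoatom (stU q W) :=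
  isCoatom_comap_of_maxIn (suHom n F q) range_suHom (nondeg_maximal n q hF hn h32 W hW0 hW hdim)

/-- stabilisers of non-degenerate subspaces of dimension less than `n / 2` are maximal in `PSU n F q` -/
theorem coatom_stP (hn : 3 ≤ n) (h32 : ¬ (n = 3 ∧ q = 2)) {W : Submodule F (Fin n → F)} (hW0 : W ≠ ⊥)
    (hW : Geo.IsNondegenerateOn (hermForm n F q) W) (hdim : 2 * Module.finrank F W < n) : IsCoatom (stP q W) :=
  isCoatom_map pr_surjective (by rw [ker_pr]) (LieClassical.HermPerfect.commutator_SU_eq_top hF hn h32)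
    (coatom_stU hF hn h32 hW0 hW hdim)

theorem pr_mem_stP (hn : 3 ≤ n) {W : Submodule F (Fin n → F)} {g : SU n F q} :
    pr n F q g ∈ stP q W ↔ g ∈ stU q W :=
  mem_map_iff_of_ker_le (ker_le_stU hF hn W)

theorem index_stP (hn : 3 ≤ n) (W : Submodule F (Fin n → F)) : (stP q W).index = (stU q W).index :=
  index_map_of_ker_le pr_surjective (ker_le_stU hF hn W)

/-! ### Conjugates -/

omit [Fintype F] hF in
/-- the image of a subspace -/
def im (g : SU n F q) (W : Submodule F (Fin n → F)) : Submodule F (Fin n → F) := W.map (Matrix.toLin' (mat g))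

omit [Fintype F] hF in
theorem mem_im {g : SU n F q} {W : Submodule F (Fin n → F)} {v : Fin n → F} : v ∈ im g W ↔ act g⁻¹ v ∈ W := by
  rw [im, Submodule.mem_map]
  constructor
  · rintro ⟨w, hw, rfl⟩
    rw [Matrix.toLin'_apply]
    change act g⁻¹ (act g w) ∈ W
    rwa [act_inv_act]
  · intro h
    exact ⟨_, h, by rw [Matrix.toLin'_apply]; exact act_act_inv g v⟩

omit [Fintype F] hF in
theorem finrank_im (g : SU n F q) (W : Submodule F (Fin n → F)) :
    Module.finrank F (im g W) = Module.finrank F W := by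
  refine (LinearEquiv.finrank_eq (Submodule.equivMapOfInjective (Matrix.toLin' (mat g)) ?_ W)).symm
  intro x y h
  rw [Matrix.toLin'_apply, Matrix.toLin'_apply] at h
  exact act_injective g h

omit hF in
theorem mem_stU_im {g x : SU n F q} {W : Submodule F (Fin n → F)} : x ∈ stU q (im g W) ↔ g⁻¹ * x * g ∈ stU q W := by
  rw [mem_stU, mem_stU]
  constructor
  · intro h v
    have h1 := h (act g v)
    rw [mem_im, mem_im, act_inv_act] at h1
    rw [h1, act_mul, act_mul]
  · intro h v
    have h1 := h (act g⁻¹ v)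
    rw [mem_im, mem_im, h1, act_mul, act_mul, act_act_inv]

omit [Fintype F] hF in
theorem nondeg_im (g : SU n F q) {W : Submodule F (Fin n → F)} (hW : Geo.IsNondegenerateOn (hermForm n F q) W) :
    Geo.IsNondegenerateOn (hermForm n F q) (im g W) := by
  intro w hw hw0
  rw [mem_im] at hw
  obtain ⟨⟨x, hx, h1⟩, ⟨y, hy, h2⟩⟩ := hW _ hw (fun h => hw0 ((act_eq_zero g⁻¹).1 h))
  refine ⟨⟨act g x, ?_, ?_⟩, ⟨act g y, ?_, ?_⟩⟩
  · rw [mem_im, act_inv_act]
    exact hx
  · rwa [herm_act_left]
  · rw [mem_im, act_inv_act]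
    exact hy
  · rwa [← herm_act g⁻¹, act_inv_act]

omit [Fintype F] hF in
theorem im_ne_bot (g : SU n F q) {W : Submodule F (Fin n → F)} (hW : W ≠ ⊥) : im g W ≠ ⊥ := by
  obtain ⟨w, hw, hw0⟩ := (Submodule.ne_bot_iff W).1 hW
  refine (Submodule.ne_bot_iff _).2 ⟨act g w, ?_, fun h => hw0 ((act_eq_zero g).1 h)⟩
  rw [mem_im, act_inv_act]
  exact hw

/-! ### Transvections -/

/-- an isotropic vector whose transvections stabilise a non-degenerate `W` is in `W` or in `W^⊥` -/
theorem mem_or_of_transv {W U : Submodule F (Fin n → F)} (hP : PerpPair q W U) {x : Fin n → F}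
    (hx : hermForm n F q x x = 0) (h : transvG hF x hx ≤ stU q W) : x ∈ W ∨ x ∈ U := by
  by_contra hc
  push Not at hc
  obtain ⟨hxW, hxU⟩ := hc
  apply hxU
  apply hP.mem'
  intro w hw
  by_contra h0
  obtain ⟨μ, hμ0, hμ⟩ := exists_trace_zero_ne hF
  have h1 : transv hF x hx μ hμ ∈ stU q W := h ⟨μ, hμ, rfl⟩
  have h2 := (mem_stU.1 h1 w).1 hw
  rw [act_transv] at h2
  have h3 := W.sub_mem h2 hw
  rw [add_sub_cancel_left] at h3
  have h4 : μ * hermForm n F q w x ≠ 0 := mul_ne_zero hμ0 (fun h => h0 (herm_eq_zero_swap hF h))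
  have h5 := W.smul_mem (μ * hermForm n F q w x)⁻¹ h3
  rw [smul_smul, inv_mul_cancel₀ h4, one_smul] at h5
  exact hxW h5

omit hF in
theorem stU_perp {W U : Submodule F (Fin n → F)} (hP : PerpPair q W U) : stU q W ≤ stU q U := by
  intro g hg
  refine mem_stU_of_le fun u hu => ?_
  apply hP.mem'
  intro w hw
  have h1 := (mem_stU.1 ((stU q W).inv_mem hg) w).1 hw
  rw [herm_act_left]
  exact hP.perp' u hu _ h1

/-- the transvections of `U` stabilise `W` -/
theorem transvG_le_stU {W U : Submodule F (Fin n → F)} (hP : PerpPair q W U) {x : Fin n → F} (hxU : x ∈ U)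
    (hx : hermForm n F q x x = 0) : transvG hF x hx ≤ stU q W := by
  rintro _ ⟨μ, hμ, rfl⟩
  refine mem_stU_of_le fun w hw => ?_
  rw [act_transv, hP.perp w hw x hxU, mul_zero, zero_smul, add_zero]
  exact hw

/-- inclusions of stabilisers -/
theorem le_or_le_of_stU_le {W U W' U' : Submodule F (Fin n → F)} (hP : PerpPair q W U) (hP' : PerpPair q W' U')
    (hU2 : 2 ≤ Module.finrank F U) (h : stU q W ≤ stU q W') : U ≤ W' ∨ U ≤ U' := by
  have h1 : ∀ x ∈ U, hermForm n F q x x = 0 → x ∈ W' ∨ x ∈ U' := fun x hxU hx =>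
    mem_or_of_transv hF hP' hx ((transvG_le_stU hF hP hxU hx).trans h)
  have h2 : (∀ x ∈ U, hermForm n F q x x = 0 → x ∈ W') ∨ (∀ x ∈ U, hermForm n F q x x = 0 → x ∈ U') := by
    by_contra hc
    rw [not_or] at hc
    push Not at hc
    obtain ⟨⟨x, hxU, hx, hx'⟩, ⟨y, hyU, hy, hy'⟩⟩ := hc
    have hx2 := (h1 x hxU hx).resolve_left hx'
    have hy2 := (h1 y hyU hy).resolve_right hy'
    have e1 : hermForm n F q x y = 0 := hP'.perp' x hx2 y hy2
    have e2 : hermForm n F q y x = 0 := hP'.perp y hy2 x hx2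
    have h3 : hermForm n F q (x + y) (x + y) = 0 := by
      rw [herm_add_left, herm_add_right hF, herm_add_right hF, hx, hy, e1, e2]
      ring
    rcases h1 (x + y) (U.add_mem hxU hyU) h3 with h4 | h4
    · apply hx'
      have := W'.sub_mem h4 hy2
      rwa [add_sub_cancel_right] at this
    · apply hy'
      have := U'.sub_mem h4 hx2
      rwa [add_sub_cancel_left] at this
  rcases h2 with h2 | h2
  · left
    intro x hx
    have := forall_of_iso hF (X := W') hP.nd' hU2 (1 : GL (Fin n) F)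
      (fun v hv hvv => by rw [Units.val_one, Matrix.one_mulVec]; exact h2 v hv hvv) x hx
    rwa [Units.val_one, Matrix.one_mulVec] at this
  · right
    intro x hx
    have := forall_of_iso hF (X := U') hP.nd' hU2 (1 : GL (Fin n) F)
      (fun v hv hvv => by rw [Units.val_one, Matrix.one_mulVec]; exact h2 v hv hvv) x hx
    rwa [Units.val_one, Matrix.one_mulVec] at this

/-- the dimension of a non-degenerate `W`, `2 dim W < n`, is determined by its stabiliser -/
theorem finrank_le_of_stU_le {W W' : Submodule F (Fin n → F)} (hn : 2 ≤ n)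
    (hW : Geo.IsNondegenerateOn (hermForm n F q) W) (hW' : Geo.IsNondegenerateOn (hermForm n F q) W')
    (hdim : 2 * Module.finrank F W < n) (hdim' : 2 * Module.finrank F W' < n) (h : stU q W ≤ stU q W') :
    Module.finrank F W' ≤ Module.finrank F W := by
  have h1 := nd_of_geo hW
  have h1' := nd_of_geo hW'
  have hP := perpPair_of_nd hF h1
  have hP' := perpPair_of_nd hF h1'
  have hd := finrank_hermPerp_of_nondeg hF W h1
  have hd' := finrank_hermPerp_of_nondeg hF W' h1'
  rcases le_or_le_of_stU_le hF hP hP' (by omega) h with h2 | h2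
  · have := Submodule.finrank_mono h2
    omega
  · have := Submodule.finrank_mono h2
    omega

/-- stabilisers of non-degenerate subspaces of different dimensions are not conjugate -/
theorem not_conj_stP (hn : 3 ≤ n) {W W' : Submodule F (Fin n → F)}
    (hW : Geo.IsNondegenerateOn (hermForm n F q) W) (hW' : Geo.IsNondegenerateOn (hermForm n F q) W')
    (hdim : 2 * Module.finrank F W < n) (hdim' : 2 * Module.finrank F W' < n)
    (hne : Module.finrank F W ≠ Module.finrank F W') (g : PSU n F q) :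
    Subgroup.map (MulAut.conj g).toMonoidHom (stP q W) ≠ stP q W' := by
  intro h
  obtain ⟨g, rfl⟩ := pr_surjective g
  have h1 := conj_of_map_conj (ker_le_stU hF hn W) (ker_le_stU hF hn W') h
  have h2 : stU q (im g W) = stU q W' := by
    ext x
    rw [mem_stU_im, ← h1, mem_map_conj]
  apply hne
  apply le_antisymm
  · rw [← finrank_im g W]
    exact finrank_le_of_stU_le hF (by omega) hW' (nondeg_im g hW) hdim' (by rw [finrank_im]; exact hdim) h2.ge
  · rw [← finrank_im g W]
    exact finrank_le_of_stU_le hF (by omega) (nondeg_im g hW) hW' (by rw [finrank_im]; exact hdim) hdim' h2.le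

/-! ### Siegel transformations and the index -/

/-- the Siegel transformations of an isotropic vector of `W` do not stabilise `U` -/
theorem not_siegG_le {W U : Submodule F (Fin n → F)} (hP : PerpPair q W U) (hU0 : U ≠ ⊥) {u : Fin n → F} (huW : u ∈ W)
    (hu : hermForm n F q u u = 0) (hu0 : u ≠ 0) : ¬ siegG hF u hu ≤ stU q U := by
  intro h
  obtain ⟨v, hv, hv0⟩ := (Submodule.ne_bot_iff U).1 hU0
  obtain ⟨w, hw, hvw⟩ : ∃ w ∈ U, hermForm n F q v w ≠ 0 := by
    by_contra hc
    push Not at hc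
    exact hv0 (hP.nd' v hv hc)
  obtain ⟨μ, hμ⟩ := exists_trace_eq hF (c := -hermForm n F q w w) (by rw [neg_pow_q hF, herm_self_pow hF])
  have hs : IsSiegel q u w μ := ⟨hu, hP.perp' w hw u huW, by rw [hμ]; ring⟩
  have h1 := (mem_stU.1 (h ⟨w, μ, hs, rfl⟩) v).1 hv
  rw [act_siegel, hP.perp' v hv u huW, zero_smul, add_zero, mul_zero, zero_sub] at h1
  have h2 := U.sub_mem h1 hv
  rw [add_sub_cancel_left] at h2
  have h3 := U.smul_mem (-hermForm n F q v w)⁻¹ h2
  rw [smul_smul, inv_mul_cancel₀ (neg_ne_zero.2 hvw), one_smul] at h3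
  exact hu0 (hP.disj huW h3)

/-- the index of the stabiliser of a proper non-degenerate subspace is divisible by `p` -/
theorem dvd_index_stU (hn : 2 ≤ n) {p : ℕ} [hp : Fact p.Prime] [CharP F p] {W : Submodule F (Fin n → F)} (hW0 : W ≠ ⊥)
    (hW1 : W ≠ ⊤) (hW : Geo.IsNondegenerateOn (hermForm n F q) W) : p ∣ (stU q W).index := by
  by_contra hnd
  -- an isotropic vector
  obtain ⟨u, hu0, hu⟩ : ∃ u : Fin n → F, u ≠ 0 ∧ hermForm n F q u u = 0 := by
    by_contra hc
    push Not at hc
    have hnd' : Nd q (⊤ : Submodule F (Fin n → F)) := fun v _ hv => herm_nondeg hF fun w => hv w trivial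
    have h1 := forall_of_iso hF (X := (⊥ : Submodule F (Fin n → F))) hnd'
      (by rw [finrank_top, Module.finrank_fin_fun]; exact hn) (1 : GL (Fin n) F)
      (fun v _ hvv => by
        rw [Units.val_one, Matrix.one_mulVec, Submodule.mem_bot]
        by_contra h0
        exact hc v h0 hvv) (Pi.single (⟨0, by omega⟩ : Fin n) 1) trivial
    rw [Units.val_one, Matrix.one_mulVec, Submodule.mem_bot] at h1
    have h2 := congrFun h1 (⟨0, by omega⟩ : Fin n)
    rw [Pi.single_eq_same, Pi.zero_apply] at h2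
    exact one_ne_zero h2
  have hpg : IsPGroup p (siegG hF u hu) := isPGroup_siegG hF p hu
  have hfin : Finite (SU n F q ⧸ stU q W) := inferInstance
  obtain ⟨c, hc⟩ := hpg.nonempty_fixed_point_of_prime_not_dvd_card (α := SU n F q ⧸ stU q W) (by
    rw [← Subgroup.index_eq_card]
    exact hnd)
  obtain ⟨g, rfl⟩ := QuotientGroup.mk_surjective c
  have h1 : siegG hF u hu ≤ stU q (im g W) := by
    intro s hs
    rw [mem_stU_im]
    have h2 := hc ⟨s, hs⟩
    change (QuotientGroup.mk (s * g) : SU n F q ⧸ stU q W) = QuotientGroup.mk g at h2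
    rw [eq_comm, QuotientGroup.eq] at h2
    rwa [mul_assoc]
  have hnd2 := nd_of_geo (nondeg_im g hW)
  have hP := perpPair_of_nd hF hnd2
  rcases mem_or_of_transv hF hP hu ((transvG_le_siegG hF hu).trans h1) with h2 | h2
  · refine not_siegG_le hF hP ?_ h2 hu hu0 (h1.trans (stU_perp hP))
    intro h0
    have hd := finrank_hermPerp_of_nondeg hF _ hnd2
    rw [h0, finrank_bot, finrank_im, add_zero] at hd
    apply hW1
    apply Submodule.eq_top_of_finrank_eq
    rw [hd, Module.finrank_fin_fun]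
  · exact not_siegG_le hF hP.symm (im_ne_bot g hW0) h2 hu hu0 h1

theorem dvd_index_stP (hn : 3 ≤ n) {p : ℕ} [hp : Fact p.Prime] [CharP F p] {W : Submodule F (Fin n → F)} (hW0 : W ≠ ⊥)
    (hW1 : W ≠ ⊤) (hW : Geo.IsNondegenerateOn (hermForm n F q) W) : p ∣ (stP q W).index := by
  rw [index_stP hF hn]
  exact dvd_index_stU hF (by omega) hW0 hW1 hW

/-! ### Coordinate subspaces -/

omit [Fintype F] hF in
/-- the span of the first `k` basis vectors -/
def co (F : Type*) [Field F] {n k : ℕ} (hk : k ≤ n) : Submodule F (Fin n → F) :=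
  Submodule.span F (Set.range fun i : Fin k => (Pi.single (Fin.castLE hk i) 1 : Fin n → F))

omit [Fintype F] hF in
theorem finrank_co {k : ℕ} (hk : k ≤ n) : Module.finrank F (co F hk) = k := by
  have h1 : LinearIndependent F (fun i : Fin k => (Pi.single (Fin.castLE hk i) 1 : Fin n → F)) := by
    have := (Pi.basisFun F (Fin n)).linearIndependent.comp (Fin.castLE hk) (Fin.castLE_injective hk)
    convert this using 1
    funext i
    simp
  rw [co, finrank_span_eq_card h1, Fintype.card_fin]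

omit [Fintype F] hF in
theorem apply_eq_zero_of_mem_co {k : ℕ} (hk : k ≤ n) {v : Fin n → F} (hv : v ∈ co F hk) {i : Fin n} (hi : k ≤ i.val) :
    v i = 0 := by
  refine Submodule.span_induction (p := fun v _ => v i = 0) ?_ ?_ ?_ ?_ hv
  · rintro _ ⟨j, rfl⟩
    have : i ≠ Fin.castLE hk j := by
      rintro rfl
      have := j.2
      rw [Fin.val_castLE] at hi
      omega
    exact Pi.single_eq_of_ne this 1
  · rfl
  · intro x y _ _ hx hy
    rw [Pi.add_apply, hx, hy, add_zero]
  · intro a x _ hx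
    rw [Pi.smul_apply, hx, smul_zero]

theorem nondeg_co {k : ℕ} (hk : k ≤ n) : Geo.IsNondegenerateOn (hermForm n F q) (co F hk) := by
  intro v hv hv0
  obtain ⟨i, hi⟩ := Function.ne_iff.1 hv0
  rw [Pi.zero_apply] at hi
  have hik : i.val < k := by
    by_contra hc
    exact hi (apply_eq_zero_of_mem_co hk hv (not_lt.1 hc))
  have hmem : (Pi.single i 1 : Fin n → F) ∈ co F hk := Submodule.subset_span ⟨⟨i.val, hik⟩, rfl⟩
  refine ⟨⟨_, hmem, ?_⟩, ⟨_, hmem, ?_⟩⟩
  · rw [herm_single_left, one_mul]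
    exact fun h => hi ((pow_q_eq_zero hF).1 h)
  · rw [herm_single_right hF, one_pow, mul_one]
    exact hi

omit [Fintype F] hF in
theorem co_ne_bot {k : ℕ} (hk : k ≤ n) (h0 : 0 < k) : co F hk ≠ ⊥ := by
  intro h
  have := finrank_co (F := F) hk
  rw [h, finrank_bot] at this
  omega

omit [Fintype F] hF in
theorem co_ne_top {k : ℕ} (hk : k < n) : co F hk.le ≠ ⊤ := by
  intro h
  have := finrank_co (F := F) hk.le
  rw [h, finrank_top, Module.finrank_fin_fun] at this
  omega

/-! ### The rows -/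

/-- the `k` classes of stabilisers of non-degenerate subspaces of dimension `1, …, k` -/
theorem sep_add {k : ℕ} (hn : 3 ≤ n) (h32 : ¬ (n = 3 ∧ q = 2)) (hk : 2 * k < n) :
    ∃ m, (n = 2 * m ∨ n = 2 * m + 1) ∧ Sep (m + k) (PSU n F q) := by
  obtain ⟨p, hpc⟩ := CharP.exists F
  have hp : Fact p.Prime := ⟨CharP.char_is_prime F p⟩
  obtain ⟨m, hm, hK⟩ := Cfsg.Agent.Omega.ML.Ex.Typ.typ_PSU hF hn (p := p)
  refine ⟨m, hm, ?_⟩
  have hle : ∀ i : Fin k, i.val + 1 ≤ n := fun i => by have := i.2; omega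
  have hd : ∀ i : Fin k, Module.finrank F (co F (hle i)) = i.val + 1 := fun i => finrank_co _
  refine SepTyp.sep_typ_coatoms hK (fun i : Fin k => stP q (co F (hle i))) (fun i => ?_) (fun i j hij g => ?_)
    fun i => ?_
  · refine coatom_stP hF hn h32 (co_ne_bot _ (Nat.succ_pos _)) (nondeg_co hF _) ?_
    rw [hd]
    have := i.2
    omega
  · have h1 := i.2
    have h2 := j.2
    refine not_conj_stP hF hn (nondeg_co hF _) (nondeg_co hF _) ?_ ?_ ?_ g
    · rw [hd]
      omega
    · rw [hd]
      omega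
    · rw [hd, hd]
      rw [Fin.lt_def] at hij
      omega
  · have h1 := i.2
    exact dvd_index_stP hF hn (co_ne_bot _ (Nat.succ_pos _)) (co_ne_top (by omega)) (nondeg_co hF _)

/-- `PSU n F q`, `6 ≤ n`, has at least five classes of maximal subgroups -/
theorem psu_five_ge6 (hn : 6 ≤ n) : Sep 5 (PSU n F q) := by
  have h3 : 3 ≤ n := by omega
  have h32 : ¬ (n = 3 ∧ q = 2) := by omega
  have h4 : 2 * 2 < n := by omega
  obtain ⟨m, hm, h⟩ := sep_add hF h3 h32 h4
  exact h.mono (by omega)

/-- `PSU 5 F q` has at least four classes of maximal subgroups -/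
theorem psu_four_5 : Sep 4 (PSU 5 F q) := by
  obtain ⟨m, hm, h⟩ := sep_add (n := 5) (k := 2) hF (by omega) (by omega) (by omega)
  exact h.mono (by omega)

end U

end Cfsg.Agent.H837.MCU
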