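import Cfsg.Agent.H837.NoEFi23
import Cfsg.Agent.H959.T5.Tools

/-!
# S3854: the row `Fi23` (helper837)

* `p = 5, 7, 11, 13` : `2.Fi22` has index prime to `p`; `p = 17` : an element of order 17 normalises no 2-subgroup
  (`H465.SpFi23.no_two`); `p = 23` : Theorem O for `t = 2`.
-/

set_option autoImplicit false

namespace Cfsg.Agent.H837.NoTEFi23

open Cfsg Subgroup Cfsg.Agent.H459.Rad Cfsg.Agent.H301.SY Cfsg.Agent.H51.SY Cfsg.Agent.H959.T5
open Cfsg.Agent.Fischer.Fi23Simple (card_Fi23)
open Cfsg.Agent.Fischer.Fi23Class (K)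
open Cfsg.Agent.H837.NoEFi23 (card_rad_K K_index)
open Cfsg.Spor (Fi23)

/-- `L` of index prime to `p`, `p ∤ |Rad L|` -/
theorem noTE_of_index {K : Type*} [Group K] [Finite K] {p : ℕ} [hp : Fact p.Prime] {L : Subgroup K} (hL : L ≠ ⊤)
    (hi : ¬ p ∣ L.index) (hr : ¬ p ∣ Nat.card (radIn L)) : NoTE p K := by
  obtain ⟨S⟩ : Nonempty (Sylow p L) := inferInstance
  have hS : IsPGroup p ↥((S : Subgroup L).map L.subtype) := S.isPGroup'.map _
  have hc : ¬ p ∣ ((S : Subgroup L).map L.subtype).index := by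
    rw [Subgroup.index_map_subtype]
    intro h1
    rcases (Nat.Prime.dvd_mul hp.out).1 h1 with h2 | h2
    · exact S.not_dvd_index h2
    · exact hi h2
  refine NoTE.of_sylow (L := L) hL (hS.toSylow hc) ?_ hr
  change (S : Subgroup L).map L.subtype ≤ L
  exact map_subtype_le _

/-- `p = 5, 7, 11, 13` -/
theorem noTE_small {p : ℕ} [hp : Fact p.Prime] (h2 : p ≠ 2) (hi : ¬ p ∣ 31671) : NoTE p Fi23 := by
  have := Cfsg.Agent.H465.SpFi23.finF
  refine noTE_of_index (L := K) ?_ (by rw [K_index]; exact hi) ?_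
  · intro h
    have := K_index
    rw [h, index_top] at this
    omega
  · intro h
    exact h2 ((Nat.prime_dvd_prime_iff_eq hp.out Nat.prime_two).1 (h.trans card_rad_K))

theorem noTE_fi23 {K : Type*} [Group K] [Finite K] [IsSimpleGroup K] (h : Cfsg.Spor.IsoFi23 K) {p : ℕ}
    [hpf : Fact p.Prime] (hp : 5 ≤ p) (_hb : Cfsg.Agent.H301.SY.Blk p K) (hO : Cfsg.Agent.H301.SY.ThO p K) :
    Cfsg.Agent.H959.T5.NoTE p K := by
  obtain ⟨e⟩ := h
  have hfin := Cfsg.Agent.H465.SpFi23.finF
  have hcard : Nat.card K = 4089470473293004800 := by rw [Nat.card_congr e.toEquiv, card_Fi23]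
  have hna : ¬ IsMulCommutative K := not_comm_of_card (by rw [hcard]; norm_num)
  have h2K : 2 ∣ Nat.card K := by rw [hcard]; norm_num
  have hp2 : p ≠ 2 := by omega
  by_cases hd : p ∣ Nat.card K
  swap
  · intro x hx _ _
    exact hd (hx ▸ orderOf_dvd_natCard x)
  by_cases hi : p ∣ 31671
  swap
  · exact NoTE.congr e (noTE_small (by omega) hi)
  have hp' : p = 17 ∨ p = 23 := by
    have h1 : (31671 : ℕ) = 3 ^ 4 * 17 * 23 := by norm_num
    rw [h1] at hi
    rcases (Nat.Prime.dvd_mul hpf.out).1 hi with h2 | h2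
    · rcases (Nat.Prime.dvd_mul hpf.out).1 h2 with h3 | h3
      · have := (Nat.prime_dvd_prime_iff_eq hpf.out Nat.prime_three).1 (hpf.out.dvd_of_dvd_pow h3)
        omega
      · exact Or.inl ((Nat.prime_dvd_prime_iff_eq hpf.out (by norm_num)).1 h3)
    · exact Or.inr ((Nat.prime_dvd_prime_iff_eq hpf.out (by norm_num)).1 h2)
  rcases hp' with rfl | rfl
  · -- `p = 17`
    have hcyc := cyclic_of_card (K := K) (p := 17) (by rw [hcard]; norm_num)
    refine NoTE.of_vfour hna h2K hp2 hcyc fun x hx _ => ?_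
    rintro ⟨R, hR0, hR2, hxR⟩
    refine Cfsg.Agent.H465.SpFi23.no_two (y := e x) (E := R.map e.toMonoidHom) ?_ (hR2.map _) ?_ ?_
    · rw [MulEquiv.orderOf_eq, hx]
    · rwa [Ne, Subgroup.map_eq_bot_iff_of_injective _ e.injective]
    · rintro _ ⟨u, hu, rfl⟩
      have h1 : x * u * x⁻¹ ∈ R := hxR u hu
      exact ⟨_, h1, by simp⟩
  · -- `p = 23`
    have hcyc := cyclic_of_card (K := K) (p := 23) (by rw [hcard]; norm_num)
    refine NoTE.of_num hna h2K hp2 hcyc hO ?_ (Or.inr ?_)
    · intro x hx h2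
      have hx' : orderOf (e x) = 23 := by rw [MulEquiv.orderOf_eq, hx]
      have : Fact (Nat.Prime 2) := ⟨Nat.prime_two⟩
      obtain ⟨u, hu⟩ := exists_prime_orderOf_dvd_card' 2 h2
      have h3 := (Cfsg.Agent.H839.Fi23.twentythree_main (zpowers (e x)) (by rw [Nat.card_zpowers, hx'])).2
      have hux : Commute x (u : K) := (mem_centralizer_singleton_iff.1 u.2).symm
      have h4 : e (u : K) ∈ centralizer ((zpowers (e x) : Subgroup Fi23) : Set Fi23) := by
        rw [mem_centralizer_iff]
        rintro g hg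
        obtain ⟨i, rfl⟩ := mem_zpowers_iff.1 hg
        exact (Commute.zpow_left (hux.map e) i).eq
      rw [h3] at h4
      have h5 := orderOf_dvd_of_mem_zpowers h4
      rw [MulEquiv.orderOf_eq, orderOf_coe, hu, hx'] at h5
      omega
    · obtain ⟨T⟩ : Nonempty (Sylow 2 K) := inferInstance
      refine ⟨T, ?_⟩
      intro a j n h1 h2 h3 _ _ _ _
      have : Fact (Nat.Prime 2) := ⟨Nat.prime_two⟩
      have h4 : a + j = 18 := by
        have h5 := T.card_eq_multiplicity
        rw [hcard] at h5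
        have h6 : (4089470473293004800 : ℕ).factorization 2 = 18 := by
          have h7 : (4089470473293004800 : ℕ) = 2 ^ 18 * 15600091832325 := by norm_num
          rw [h7, Nat.factorization_mul (by norm_num) (by norm_num), Nat.Prime.factorization_pow Nat.prime_two,
            Finsupp.add_apply, Finsupp.single_eq_same,
            Nat.factorization_eq_zero_of_not_dvd (by norm_num : ¬ 2 ∣ 15600091832325)]
        rw [h6, h1] at h5
        exact Nat.pow_right_injective le_rfl h5
      have h5 : j ≤ 1 := by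
        by_contra h6
        have h7 : 2 ^ 2 ∣ 23 - 1 := (pow_dvd_pow 2 (by omega)).trans h3
        omega
      have h6 : a = 17 ∨ a = 18 := by omega
      rcases h6 with rfl | rfl
      · norm_num at h2
      · norm_num at h2

end Cfsg.Agent.H837.NoTEFi23
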